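import Mathlib

set_option autoImplicit false
set_option linter.style.haveILetI false
set_option linter.unusedSectionVars false

/-!
Generators, relations, element list and Klein four-subgroups of a subgroup isomorphic to the
dihedral group of order eight.
-/

namespace Cfsg.Agent.Lib.Helper5.D8Mod

open DihedralGroup

theorem d4_elems (x : DihedralGroup 4) : (∃ i : ZMod 4, x = r i) ∨ (∃ i : ZMod 4, x = sr i) := by
  cases x with
  | r i => exact Or.inl ⟨i, rfl⟩
  | sr i => exact Or.inr ⟨i, rfl⟩

set_option maxRecDepth 100000 in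
theorem d4_klein : ∀ T : Finset (DihedralGroup 4), T.card = 4 → (∀ b ∈ T, b * b = 1) →
    (∀ a ∈ T, ∀ b ∈ T, a * b ∈ T) → ∃ k : ZMod 4, T = {1, r 2, sr k, sr (k + 2)} := by
  decide +kernel

theorem d4_r_pow (i : ZMod 4) : (r i : DihedralGroup 4) = (r 1) ^ i.val := by
  revert i; decide

/-- the Klein four-subgroups of the dihedral group of order eight -/
def d4Klein (k : ZMod 4) : Subgroup (DihedralGroup 4) where
  carrier := {d | d = 1 ∨ d = r 2 ∨ d = sr k ∨ d = sr (k + 2)}
  mul_mem' := by
    intro a b ha hb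
    revert a b k
    decide
  one_mem' := Or.inl rfl
  inv_mem' := by
    intro a ha
    revert a k
    decide

theorem mem_d4Klein (k : ZMod 4) (d : DihedralGroup 4) :
    d ∈ d4Klein k ↔ d = 1 ∨ d = r 2 ∨ d = sr k ∨ d = sr (k + 2) := Iff.rfl

instance (k : ZMod 4) : DecidablePred (· ∈ d4Klein k) := fun d =>
  decidable_of_iff _ (mem_d4Klein k d).symm

theorem card_d4Klein (k : ZMod 4) : Nat.card (d4Klein k) = 4 := by
  rw [Nat.card_eq_fintype_card]
  revert k
  decide

variable {S : Type*} [Group S]

/-- generators of a dihedral subgroup of order eight -/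
structure D8Data (X : Subgroup S) where
  /-- the rotation -/
  r : S
  /-- the four reflections -/
  t : ZMod 4 → S
  hr : r ∈ X
  ht : ∀ k, t k ∈ X
  r4 : r ^ 4 = 1
  r2 : r ^ 2 ≠ 1
  t2 : ∀ k, t k * t k = 1
  tr : ∀ k, t k * r = r⁻¹ * t k
  tsucc : ∀ k, t (k + 1) = t k * r
  elems : ∀ x ∈ X, (∃ i : ℕ, x = r ^ i) ∨ (∃ k, x = t k)
  t_ne : ∀ k (i : ℕ), t k ≠ r ^ i
  klein : ∀ B : Subgroup S, B ≤ X → Nat.card B = 4 → (∀ b ∈ B, b ^ 2 = 1) →
    ∃ k, (B : Set S) = {1, r ^ 2, t k, t (k + 2)}
  /-- the Klein four-subgroups -/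
  kl : ZMod 4 → Subgroup S
  kl_le : ∀ k, kl k ≤ X
  kl_coe : ∀ k, (kl k : Set S) = {1, r ^ 2, t k, t (k + 2)}
  kl_card : ∀ k, Nat.card (kl k) = 4
  cardX : Nat.card X = 8

theorem exists_D8Data (X : Subgroup S) (e : X ≃* DihedralGroup 4) : Nonempty (D8Data X) := by
  classical
  have hmul : ∀ x y : DihedralGroup 4, ((e.symm (x * y) : X) : S) = (e.symm x : X) * (e.symm y : X) := by
    intro x y; rw [map_mul]; rfl
  have hone : ((e.symm 1 : X) : S) = 1 := by rw [map_one]; rfl
  have hinj : ∀ x y : DihedralGroup 4, ((e.symm x : X) : S) = (e.symm y : X) → x = y := by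
    intro x y h
    exact e.symm.injective (Subtype.ext h)
  have hpow : ∀ (x : DihedralGroup 4) (n : ℕ), ((e.symm (x ^ n) : X) : S) = ((e.symm x : X) : S) ^ n := by
    intro x n; rw [map_pow]; rfl
  refine ⟨{
    r := ((e.symm (r 1) : X) : S)
    t := fun k => ((e.symm (sr k) : X) : S)
    hr := (e.symm (r 1)).2
    ht := fun k => (e.symm (sr k)).2
    r4 := ?_
    r2 := ?_
    t2 := ?_
    tr := ?_
    tsucc := ?_
    elems := ?_
    t_ne := ?_
    klein := ?_
    kl := fun k => ((d4Klein k).comap e.toMonoidHom).map X.subtype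
    kl_le := ?_
    kl_coe := ?_
    kl_card := ?_
    cardX := ?_ }⟩
  · rw [← hpow, ← hone]; congr 2
  · rw [← hpow, ← hone]
    intro h
    have := hinj _ _ h
    revert this; decide
  · intro k
    rw [← hmul, ← hone]; congr 2
    revert k; decide
  · intro k
    have h1 : ((e.symm (r 1) : X) : S)⁻¹ = ((e.symm ((r 1)⁻¹) : X) : S) := by
      rw [map_inv]; rfl
    rw [h1, ← hmul, ← hmul]; congr 2
    revert k; decide
  · intro k
    rw [← hmul]; congr 2
  · intro x hx
    rcases d4_elems (e ⟨x, hx⟩) with ⟨i, hi⟩ | ⟨i, hi⟩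
    · left
      refine ⟨i.val, ?_⟩
      rw [← hpow, ← d4_r_pow, ← hi, MulEquiv.symm_apply_apply]
    · right
      refine ⟨i, ?_⟩
      rw [← hi, MulEquiv.symm_apply_apply]
  · intro k i h
    rw [← hpow] at h
    have := hinj _ _ h
    rw [DihedralGroup.r_one_pow] at this
    exact absurd this (by simp)
  · intro B hBX hB4 hB2
    -- transport to the dihedral group
    let T : Finset (DihedralGroup 4) := Finset.univ.filter (fun d => ((e.symm d : X) : S) ∈ B)
    have hT : ∀ d, d ∈ T ↔ ((e.symm d : X) : S) ∈ B := by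
      intro d; simp [T]
    have hbij : ∀ b ∈ B, ∃ d, ((e.symm d : X) : S) = b := by
      intro b hb
      refine ⟨e ⟨b, hBX hb⟩, ?_⟩
      rw [MulEquiv.symm_apply_apply]
    have hcard : T.card = 4 := by
      have h1 : Nat.card B = Nat.card T := by
        apply Nat.card_congr
        refine Equiv.ofBijective (fun b : B => (⟨e ⟨b.1, hBX b.2⟩, ?_⟩ : T)) ⟨?_, ?_⟩
        · rw [hT, MulEquiv.symm_apply_apply]; exact b.2
        · intro b b' h
          have h1 : e ⟨b.1, hBX b.2⟩ = e ⟨b'.1, hBX b'.2⟩ := congrArg Subtype.val h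
          have h2 := e.injective h1
          exact Subtype.ext (congrArg (fun x : X => (x : S)) h2)
        · intro d
          refine ⟨⟨((e.symm d.1 : X) : S), (hT d.1).1 d.2⟩, ?_⟩
          apply Subtype.ext
          show e ⟨((e.symm d.1 : X) : S), _⟩ = d.1
          have : (⟨((e.symm d.1 : X) : S), hBX ((hT d.1).1 d.2)⟩ : X) = e.symm d.1 := Subtype.ext rfl
          rw [this, MulEquiv.apply_symm_apply]
      have h2 : Nat.card T = T.card := by
        rw [Nat.card_eq_fintype_card, Fintype.card_coe]
      omega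
    have hsq : ∀ b ∈ T, b * b = 1 := by
      intro d hd
      apply hinj
      rw [hmul, hone, ← pow_two]
      exact hB2 _ ((hT d).1 hd)
    have hcl : ∀ a ∈ T, ∀ b ∈ T, a * b ∈ T := by
      intro a ha b hb
      rw [hT, hmul]
      exact B.mul_mem ((hT a).1 ha) ((hT b).1 hb)
    obtain ⟨k, hk⟩ := d4_klein T hcard hsq hcl
    refine ⟨k, ?_⟩
    ext b
    constructor
    · intro hb
      obtain ⟨d, rfl⟩ := hbij b hb
      have hd : d ∈ T := (hT d).2 hb
      rw [hk] at hd
      simp only [Finset.mem_insert, Finset.mem_singleton] at hd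
      rcases hd with rfl | rfl | rfl | rfl
      · left; exact hone
      · right; left
        rw [← hpow]; congr 2
      · right; right; left; rfl
      · right; right; right; rfl
    · intro hb
      have h1 : (1 : DihedralGroup 4) ∈ T := by rw [hk]; simp
      have h2 : (r 2 : DihedralGroup 4) ∈ T := by rw [hk]; simp
      have h3 : (sr k : DihedralGroup 4) ∈ T := by rw [hk]; simp
      have h4 : (sr (k + 2) : DihedralGroup 4) ∈ T := by rw [hk]; simp
      rcases hb with rfl | rfl | rfl | rfl
      · exact B.one_mem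
      · have := (hT _).1 h2
        rw [← hpow]
        have e2 : (r 1 : DihedralGroup 4) ^ 2 = r 2 := by decide
        rw [e2]; exact this
      · exact (hT _).1 h3
      · exact (hT _).1 h4
  · intro k x hx
    obtain ⟨y, _, rfl⟩ := hx
    exact y.2
  · intro k
    ext b
    constructor
    · rintro ⟨y, hy, rfl⟩
      have hy' : e y ∈ d4Klein k := hy
      rw [mem_d4Klein] at hy'
      have hy2 : y = e.symm (e y) := (MulEquiv.symm_apply_apply e y).symm
      show ((y : X) : S) ∈ _
      rw [hy2]
      rcases hy' with h | h | h | h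
      · left; rw [h]; exact hone
      · right; left
        rw [h, ← hpow]; congr 2
      · right; right; left; rw [h]
      · right; right; right; rw [h]; rfl
    · intro hb
      have key : ∀ d ∈ d4Klein k, ((e.symm d : X) : S) ∈
          (((d4Klein k).comap e.toMonoidHom).map X.subtype : Subgroup S) := by
        intro d hd
        refine ⟨e.symm d, ?_, rfl⟩
        show e (e.symm d) ∈ d4Klein k
        rw [MulEquiv.apply_symm_apply]; exact hd
      rcases hb with rfl | rfl | rfl | rfl
      · exact Subgroup.one_mem _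
      · have := key (r 2) (Or.inr (Or.inl rfl))
        rw [← hpow]
        have e2 : (r 1 : DihedralGroup 4) ^ 2 = r 2 := by decide
        rw [e2]; exact this
      · exact key _ (Or.inr (Or.inr (Or.inl rfl)))
      · exact key _ (Or.inr (Or.inr (Or.inr rfl)))
  · intro k
    refine Eq.trans ?_ (card_d4Klein k)
    have h1 : Nat.card (((d4Klein k).comap e.toMonoidHom).map X.subtype : Subgroup S) =
        Nat.card ((d4Klein k).comap e.toMonoidHom : Subgroup X) :=
      (Nat.card_congr (Subgroup.equivMapOfInjective _ X.subtype X.subtype_injective).toEquiv).symm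
    rw [h1]
    apply Nat.card_congr
    exact (e.subgroupMap ((d4Klein k).comap e.toMonoidHom)).toEquiv.trans
      (Equiv.setCongr (by
        ext d
        simp only [Subgroup.coe_map, Set.mem_image, SetLike.mem_coe, Subgroup.mem_comap]
        constructor
        · rintro ⟨y, hy, rfl⟩; exact hy
        · intro hd
          exact ⟨e.symm d, by simpa using hd, by simp⟩))
  · rw [Nat.card_congr e.toEquiv, DihedralGroup.nat_card]

end Cfsg.Agent.Lib.Helper5.D8Mod
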