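import Mathlib
import Cfsg.Agent.Lib.Helper5.D8Mod.Dih

set_option autoImplicit false
set_option linter.style.haveILetI false
set_option linter.unusedSectionVars false

/-!
The action of a dihedral group of order eight on a self-centralizing normal elementary abelian
subgroup of order nine.
-/

namespace Cfsg.Agent.Lib.Helper5.D8Mod

variable {S : Type*} [Group S]

/-- elements of the cyclic group generated by an element of order dividing three -/
theorem mem_zpowers_three {x y : S} (hx : x ^ 3 = 1) (hy : y ∈ Subgroup.zpowers x) :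
    y = 1 ∨ y = x ∨ y = x⁻¹ := by
  obtain ⟨n, rfl⟩ := Subgroup.mem_zpowers_iff.1 hy
  have hx' : x ^ (3 : ℤ) = 1 := by exact_mod_cast hx
  rw [zpow_eq_zpow_emod n hx']
  have h1 : 0 ≤ n % 3 := Int.emod_nonneg n (by norm_num)
  have h2 : n % 3 < 3 := Int.emod_lt_of_pos n (by norm_num)
  have h3 : n % 3 = 0 ∨ n % 3 = 1 ∨ n % 3 = 2 := by omega
  rcases h3 with h | h | h
  · left; rw [h, zpow_zero]
  · right; left; rw [h, zpow_one]
  · right; right
    rw [h]
    apply eq_inv_of_mul_eq_one_left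
    have : x ^ (2 : ℤ) * x = x ^ (3 : ℤ) := by
      rw [show (3 : ℤ) = 2 + 1 by norm_num, zpow_add, zpow_one]
    rw [this, hx']

section act

variable (A : Subgroup S) [A.Normal] (hcomm : ∀ x ∈ A, ∀ y ∈ A, x * y = y * x)
  (h3 : ∀ x ∈ A, x ^ 3 = 1) (h9 : Nat.card A = 9)
  (hAC : Subgroup.centralizer (A : Set S) = A)

include h3 in
theorem eq_one_of_sq (x : S) (hx : x ∈ A) (h2 : x * x = 1) : x = 1 := by
  have := h3 x hx
  rw [pow_succ, pow_two, h2, one_mul] at this
  exact this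

include h3 hAC in
/-- a nonidentity involution does not centralize `A` -/
theorem not_centralize (u : S) (hu2 : u * u = 1) (hu1 : u ≠ 1) :
    ∃ x ∈ A, u * x * u⁻¹ ≠ x := by
  by_contra hcon
  push Not at hcon
  apply hu1
  have hu : u ∈ Subgroup.centralizer (A : Set S) := by
    rw [Subgroup.mem_centralizer_iff]
    intro x hx
    have := hcon x hx
    rw [mul_inv_eq_iff_eq_mul] at this
    exact this.symm
  rw [hAC] at hu
  exact eq_one_of_sq A h3 u hu hu2

include hcomm in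
/-- an involution without fixed points inverts `A` -/
theorem inv_of_fixed_trivial (u : S) (hu2 : u * u = 1)
    (hfix : ∀ x ∈ A, u * x * u⁻¹ = x → x = 1) : ∀ x ∈ A, u * x * u⁻¹ = x⁻¹ := by
  intro x hx
  have hux : u * x * u⁻¹ ∈ A := Subgroup.Normal.conj_mem inferInstance x hx u
  have hu' : u⁻¹ = u := inv_eq_of_mul_eq_one_right hu2
  have hy : x * (u * x * u⁻¹) ∈ A := A.mul_mem hx hux
  have h1 : u * (x * (u * x * u⁻¹)) * u⁻¹ = x * (u * x * u⁻¹) := by
    have e1 : u * (x * (u * x * u⁻¹)) * u⁻¹ = (u * x * u⁻¹) * (u * u * x * (u⁻¹ * u⁻¹)) := by group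
    have h4 : u⁻¹ * u⁻¹ = 1 := by rw [hu', hu2]
    rw [e1, hu2, h4, one_mul, mul_one]
    exact hcomm _ hux _ hx
  have h2 := hfix _ hy h1
  exact (eq_inv_of_mul_eq_one_right h2)

variable {X : Subgroup S} (D : D8Data X)

/-- the central involution -/
def D8Data.z : S := D.r ^ 2

theorem D8Data.z_mul_z : D.z * D.z = 1 := by
  unfold D8Data.z
  rw [← pow_add]; exact D.r4

theorem D8Data.z_ne_one : D.z ≠ 1 := D.r2

theorem D8Data.z_inv : D.z⁻¹ = D.z := inv_eq_of_mul_eq_one_right D.z_mul_z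

theorem D8Data.r_mul_r : D.r * D.r = D.z := (pow_two D.r).symm

theorem D8Data.r_inv : D.r⁻¹ = D.r * D.z := by
  apply inv_eq_of_mul_eq_one_right
  rw [← mul_assoc, D.r_mul_r, D.z_mul_z]

theorem D8Data.z_comm_r : D.z * D.r = D.r * D.z := by
  unfold D8Data.z
  rw [pow_two, mul_assoc]

include hcomm h3 in
/-- `r` moves every inverted element off its cyclic group -/
theorem r_moves_of_inverted (x : S) (hx : x ∈ A) (hx1 : x ≠ 1) (hzx : D.z * x * D.z⁻¹ = x⁻¹) :
    D.r * x * D.r⁻¹ ∉ Subgroup.zpowers x := by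
  intro hmem
  have hconj : D.z * x * D.z⁻¹ = D.r * (D.r * x * D.r⁻¹) * D.r⁻¹ := by
    rw [← D.r_mul_r]; group
  have hxx : x = x⁻¹ → False := by
    intro h
    apply hx1
    apply eq_one_of_sq A h3 x hx
    nth_rewrite 2 [h]
    exact mul_inv_cancel x
  rcases mem_zpowers_three (h3 x hx) hmem with h | h | h
  · apply hx1
    have : x = D.r⁻¹ * (D.r * x * D.r⁻¹) * D.r := by group
    rw [this, h]; group
  · rw [h, h, hzx] at hconj
    exact hxx hconj.symm
  · rw [h] at hconj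
    have e1 : D.r * x⁻¹ * D.r⁻¹ = (D.r * x * D.r⁻¹)⁻¹ := by group
    rw [e1, h, inv_inv, hzx] at hconj
    exact hxx hconj.symm

include hcomm h3 h9 hAC in
/-- **the central involution inverts `A`** -/
theorem z_inverts : ∀ x ∈ A, D.z * x * D.z⁻¹ = x⁻¹ := by
  classical
  -- the subgroup of inverted elements
  let I : Subgroup S :=
    { carrier := {x | x ∈ A ∧ D.z * x * D.z⁻¹ = x⁻¹}
      mul_mem' := by
        rintro x y ⟨hx, hx'⟩ ⟨hy, hy'⟩
        refine ⟨A.mul_mem hx hy, ?_⟩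
        have e1 : D.z * (x * y) * D.z⁻¹ = (D.z * x * D.z⁻¹) * (D.z * y * D.z⁻¹) := by group
        rw [e1, hx', hy', mul_inv_rev]
        exact hcomm _ (A.inv_mem hx) _ (A.inv_mem hy)
      one_mem' := ⟨A.one_mem, by group⟩
      inv_mem' := by
        rintro x ⟨hx, hx'⟩
        refine ⟨A.inv_mem hx, ?_⟩
        have e1 : D.z * x⁻¹ * D.z⁻¹ = (D.z * x * D.z⁻¹)⁻¹ := by group
        rw [e1, hx'] }
  have hIA : I ≤ A := fun x hx => hx.1
  -- `I` is nontrivial
  obtain ⟨x, hx, hxne⟩ := not_centralize A h3 hAC D.z D.z_mul_z D.z_ne_one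
  have hzx : D.z * x * D.z⁻¹ ∈ A := Subgroup.Normal.conj_mem inferInstance x hx D.z
  let i : S := x * (D.z * x * D.z⁻¹)⁻¹
  have hiA : i ∈ A := A.mul_mem hx (A.inv_mem hzx)
  have hiI : i ∈ I := by
    refine ⟨hiA, ?_⟩
    show D.z * (x * (D.z * x * D.z⁻¹)⁻¹) * D.z⁻¹ = (x * (D.z * x * D.z⁻¹)⁻¹)⁻¹
    have e1 : D.z * (x * (D.z * x * D.z⁻¹)⁻¹) * D.z⁻¹ =
        (D.z * x * D.z⁻¹) * (D.z * D.z * x * (D.z⁻¹ * D.z⁻¹))⁻¹ := by group
    rw [e1, D.z_inv, D.z_mul_z, one_mul, mul_one, mul_inv_rev, inv_inv]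
  have hi1 : i ≠ 1 := by
    intro h
    apply hxne
    have : x = D.z * x * D.z⁻¹ := by
      have h' : x * (D.z * x * D.z⁻¹)⁻¹ = 1 := h
      exact mul_inv_eq_one.1 h'
    exact this.symm
  -- `r` moves `i` within `I`
  let j : S := D.r * i * D.r⁻¹
  have hjA : j ∈ A := Subgroup.Normal.conj_mem inferInstance i hiA D.r
  have hjI : j ∈ I := by
    refine ⟨hjA, ?_⟩
    show D.z * (D.r * i * D.r⁻¹) * D.z⁻¹ = (D.r * i * D.r⁻¹)⁻¹
    have e1 : D.z * (D.r * i * D.r⁻¹) * D.z⁻¹ = (D.z * D.r) * i * (D.z * D.r)⁻¹ := by group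
    rw [e1, D.z_comm_r]
    have e2 : (D.r * D.z) * i * (D.r * D.z)⁻¹ = D.r * (D.z * i * D.z⁻¹) * D.r⁻¹ := by group
    rw [e2, hiI.2]; group
  have hjz : j ∉ Subgroup.zpowers i := r_moves_of_inverted A hcomm h3 D i hiA hi1 hiI.2
  -- cardinalities
  haveI : Finite A := Nat.finite_of_card_ne_zero (by rw [h9]; norm_num)
  haveI : Finite I := Finite.of_injective (fun y : I => (⟨y.1, hIA y.2⟩ : A))
    (fun a b h => Subtype.ext (congrArg (fun t : A => (t : S)) h))
  have hzI : Subgroup.zpowers i ≤ I := (Subgroup.zpowers_le).2 hiI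
  have hcz : Nat.card (Subgroup.zpowers i) = 3 := by
    haveI : Fact (Nat.Prime 3) := ⟨by norm_num⟩
    rw [Nat.card_zpowers]
    exact orderOf_eq_prime (h3 i hiA) hi1
  have hd9 : Nat.card I ∣ 9 := by
    rw [← h9]; exact Subgroup.card_dvd_of_le hIA
  have h3d : 3 ∣ Nat.card I := by
    rw [← hcz]; exact Subgroup.card_dvd_of_le hzI
  have hne3 : Nat.card I ≠ 3 := by
    intro h
    have : Subgroup.zpowers i = I := Subgroup.eq_of_le_of_card_ge hzI (by rw [h, hcz])
    apply hjz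
    rw [this]; exact hjI
  have hI9 : Nat.card I = 9 := by
    have hle : Nat.card I ≤ 9 := Nat.le_of_dvd (by norm_num) hd9
    obtain ⟨k, hk⟩ := h3d
    have : k = 1 ∨ k = 2 ∨ k = 3 := by
      have hpos : 0 < Nat.card I := Nat.card_pos
      omega
    rcases this with rfl | rfl | rfl
    · omega
    · rw [hk] at hd9; omega
    · omega
  have hIeq : I = A := Subgroup.eq_of_le_of_card_ge hIA (by rw [hI9, h9])
  intro y hy
  have : y ∈ I := by rw [hIeq]; exact hy
  exact this.2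

include hcomm h3 h9 hAC in
theorem r_moves (x : S) (hx : x ∈ A) (hx1 : x ≠ 1) :
    D.r * x * D.r⁻¹ ∉ Subgroup.zpowers x :=
  r_moves_of_inverted A hcomm h3 D x hx hx1 (z_inverts A hcomm h3 h9 hAC D x hx)

theorem D8Data.t_mul_z (k : ZMod 4) : D.t (k + 2) = D.t k * D.z := by
  have h1 : k + 2 = (k + 1) + 1 := by ring
  rw [h1, D.tsucc, D.tsucc, mul_assoc, D.r_mul_r]

theorem D8Data.t_comm_z (k : ZMod 4) : D.t k * D.z = D.z * D.t k := by
  unfold D8Data.z
  rw [pow_two, ← mul_assoc, D.tr, mul_assoc, D.tr, ← mul_assoc]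
  have : D.r⁻¹ * D.r⁻¹ = D.r * D.r := by
    have h1 : D.r⁻¹ * D.r⁻¹ = (D.r * D.r)⁻¹ := by group
    rw [h1, D.r_mul_r, D.z_inv]
  rw [this]

theorem D8Data.t_inv (k : ZMod 4) : (D.t k)⁻¹ = D.t k := inv_eq_of_mul_eq_one_right (D.t2 k)

theorem D8Data.t_ne_one (k : ZMod 4) : D.t k ≠ 1 := by
  have := D.t_ne k 0
  rwa [pow_zero] at this

include hcomm h3 h9 hAC in
/-- every reflection centralizes a nonidentity element of `A` -/
theorem exists_fixed_of_reflection (k : ZMod 4) : ∃ p ∈ A, p ≠ 1 ∧ D.t k * p * (D.t k)⁻¹ = p := by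
  by_contra hcon
  push Not at hcon
  have hfix : ∀ x ∈ A, D.t k * x * (D.t k)⁻¹ = x → x = 1 := by
    intro x hx hxx
    by_contra hne
    exact hcon x hx hne hxx
  have hinv := inv_of_fixed_trivial A hcomm (D.t k) (D.t2 k) hfix
  have hz := z_inverts A hcomm h3 h9 hAC D
  obtain ⟨x, hx, hxne⟩ := not_centralize A h3 hAC (D.t (k + 2)) (D.t2 _) (D.t_ne_one _)
  apply hxne
  rw [D.t_mul_z]
  have e1 : D.t k * D.z * x * (D.t k * D.z)⁻¹ = D.t k * (D.z * x * D.z⁻¹) * (D.t k)⁻¹ := by group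
  rw [e1, hz x hx, hinv _ (A.inv_mem hx), inv_inv]

include hcomm h3 h9 hAC in
/-- **some reflection centralizes a given nonidentity element of `A`** -/
theorem exists_reflection_centralizing (a : S) (ha : a ∈ A) (ha1 : a ≠ 1) :
    ∃ k, D.t k * a * (D.t k)⁻¹ = a := by
  classical
  by_contra hcon
  push Not at hcon
  have hz := z_inverts A hcomm h3 h9 hAC D
  have hrm := r_moves A hcomm h3 h9 hAC D a ha ha1
  have haa : a ≠ a⁻¹ := by
    intro h
    apply ha1
    apply eq_one_of_sq A h3 a ha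
    nth_rewrite 2 [h]
    exact mul_inv_cancel a
  -- no nonidentity element of `X` centralizes `a`
  have hfree : ∀ x ∈ X, x * a * x⁻¹ = a → x = 1 := by
    intro x hx hxa
    rcases D.elems x hx with ⟨i, rfl⟩ | ⟨k, rfl⟩
    · have hmod : D.r ^ i = D.r ^ (i % 4) := pow_eq_pow_mod i D.r4
      rw [hmod] at hxa ⊢
      have hi : i % 4 < 4 := Nat.mod_lt _ (by norm_num)
      have hcases : i % 4 = 0 ∨ i % 4 = 1 ∨ i % 4 = 2 ∨ i % 4 = 3 := by omega
      rcases hcases with h | h | h | h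
      · rw [h, pow_zero]
      · exfalso
        rw [h, pow_one] at hxa
        apply hrm
        rw [hxa]; exact Subgroup.mem_zpowers a
      · exfalso
        rw [h] at hxa
        have := hz a ha
        unfold D8Data.z at this
        rw [hxa] at this
        exact haa this
      · exfalso
        rw [h] at hxa
        apply hrm
        have e1 : D.r * a * D.r⁻¹ = D.r ^ 4 * (D.r ^ 3)⁻¹ * a * (D.r ^ 4 * (D.r ^ 3)⁻¹)⁻¹ := by group
        have e2 : D.r * a * D.r⁻¹ = D.r * (D.r ^ 3 * a * (D.r ^ 3)⁻¹) * D.r⁻¹ := by rw [hxa]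
        have e3 : D.r * (D.r ^ 3 * a * (D.r ^ 3)⁻¹) * D.r⁻¹ = D.r ^ 4 * a * (D.r ^ 4)⁻¹ := by group
        rw [e2, e3, D.r4, one_mul, inv_one, mul_one]
        exact Subgroup.mem_zpowers a
    · exact absurd hxa (hcon k)
  -- the orbit of `a` fills `A \ {1}`
  haveI : Finite A := Nat.finite_of_card_ne_zero (by rw [h9]; norm_num)
  haveI : Finite X := Nat.finite_of_card_ne_zero (by rw [D.cardX]; norm_num)
  let Ω : Set S := (A : Set S) \ {1}
  let O : Set S := (fun x => x * a * x⁻¹) '' (X : Set S)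
  have hOΩ : O ⊆ Ω := by
    rintro _ ⟨x, hx, rfl⟩
    refine ⟨Subgroup.Normal.conj_mem inferInstance a ha x, ?_⟩
    intro h
    apply ha1
    have h' : x * a * x⁻¹ = 1 := h
    have : a = x⁻¹ * (x * a * x⁻¹) * x := by group
    rw [this, h']; group
  have hAfin : (A : Set S).Finite := Set.toFinite _
  have hΩc : Ω.ncard = 8 := by
    have h1 : (A : Set S).ncard = 9 := by
      rw [← Nat.card_coe_set_eq]; exact h9
    rw [Set.ncard_sdiff_singleton_of_mem (A.one_mem), h1]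
  have hOc : O.ncard = 8 := by
    have hinj : Set.InjOn (fun x => x * a * x⁻¹) (X : Set S) := by
      intro x hx y hy hxy
      have hxy' : x * a * x⁻¹ = y * a * y⁻¹ := hxy
      have h1 : (y⁻¹ * x) * a * (y⁻¹ * x)⁻¹ = a := by
        have e1 : (y⁻¹ * x) * a * (y⁻¹ * x)⁻¹ = y⁻¹ * (x * a * x⁻¹) * y := by group
        rw [e1, hxy']; group
      have h2 := hfree _ (X.mul_mem (X.inv_mem hy) hx) h1
      exact (inv_mul_eq_one.1 h2).symm
    rw [Set.InjOn.ncard_image hinj, ← Nat.card_coe_set_eq]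
    exact D.cardX
  have hOeq : O = Ω :=
    Set.eq_of_subset_of_ncard_le hOΩ (by rw [hΩc, hOc]) (hAfin.subset Set.sdiff_subset)
  obtain ⟨p, hp, hp1, hpt⟩ := exists_fixed_of_reflection A hcomm h3 h9 hAC D 0
  have hpO : p ∈ O := by rw [hOeq]; exact ⟨hp, hp1⟩
  obtain ⟨x, hx, hxp⟩ := hpO
  have hxp' : x * a * x⁻¹ = p := hxp
  have h1 : (x⁻¹ * D.t 0 * x) * a * (x⁻¹ * D.t 0 * x)⁻¹ = a := by
    have e1 : (x⁻¹ * D.t 0 * x) * a * (x⁻¹ * D.t 0 * x)⁻¹ =
        x⁻¹ * (D.t 0 * (x * a * x⁻¹) * (D.t 0)⁻¹) * x := by group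
    rw [e1, hxp', hpt, ← hxp']; group
  have h2 := hfree _ (X.mul_mem (X.mul_mem (X.inv_mem hx) (D.ht 0)) hx) h1
  apply D.t_ne_one 0
  have : D.t 0 = x * (x⁻¹ * D.t 0 * x) * x⁻¹ := by group
  rw [this, h2]; group

theorem D8Data.t_add_nat (k : ZMod 4) (n : ℕ) : D.t (k + (n : ZMod 4)) = D.t k * D.r ^ n := by
  induction n with
  | zero => simp
  | succ n ih =>
    have h1 : k + ((n + 1 : ℕ) : ZMod 4) = (k + (n : ZMod 4)) + 1 := by push_cast; ring
    rw [h1, D.tsucc, ih, pow_succ, mul_assoc]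

theorem D8Data.t_eq (k j : ZMod 4) : D.t j = D.t k * D.r ^ (j - k).val := by
  rw [← D.t_add_nat, ZMod.natCast_zmod_val]
  congr 1; ring

include h3 h9 in
/-- two independent elements generate `A` -/
theorem closure_pair_eq (a a' : S) (ha : a ∈ A) (ha' : a' ∈ A) (ha1 : a ≠ 1)
    (hne : a' ∉ Subgroup.zpowers a) : Subgroup.closure {a, a'} = A := by
  classical
  haveI : Finite A := Nat.finite_of_card_ne_zero (by rw [h9]; norm_num)
  let H : Subgroup S := Subgroup.closure {a, a'}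
  have hHA : H ≤ A := by
    rw [Subgroup.closure_le]
    intro x hx
    rcases hx with rfl | rfl
    · exact ha
    · exact ha'
  haveI : Finite H := Finite.of_injective (fun y : H => (⟨y.1, hHA y.2⟩ : A))
    (fun x y h => Subtype.ext (congrArg (fun t : A => (t : S)) h))
  have haH : a ∈ H := Subgroup.subset_closure (Set.mem_insert _ _)
  have ha'H : a' ∈ H := Subgroup.subset_closure (Set.mem_insert_of_mem _ rfl)
  have hzH : Subgroup.zpowers a ≤ H := (Subgroup.zpowers_le).2 haH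
  have hcz : Nat.card (Subgroup.zpowers a) = 3 := by
    haveI : Fact (Nat.Prime 3) := ⟨by norm_num⟩
    rw [Nat.card_zpowers]
    exact orderOf_eq_prime (h3 a ha) ha1
  have hd9 : Nat.card H ∣ 9 := by
    rw [← h9]; exact Subgroup.card_dvd_of_le hHA
  have h3d : 3 ∣ Nat.card H := by
    rw [← hcz]; exact Subgroup.card_dvd_of_le hzH
  have hne3 : Nat.card H ≠ 3 := by
    intro h
    have : Subgroup.zpowers a = H := Subgroup.eq_of_le_of_card_ge hzH (by rw [h, hcz])
    apply hne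
    rw [this]; exact ha'H
  have hH9 : Nat.card H = 9 := by
    have hle : Nat.card H ≤ 9 := Nat.le_of_dvd (by norm_num) hd9
    obtain ⟨k, hk⟩ := h3d
    have : k = 1 ∨ k = 2 ∨ k = 3 := by
      have hpos : 0 < Nat.card H := Nat.card_pos
      omega
    rcases this with rfl | rfl | rfl
    · omega
    · rw [hk] at hd9; omega
    · omega
  exact Subgroup.eq_of_le_of_card_ge hHA (by rw [hH9, h9])

end act

end Cfsg.Agent.Lib.Helper5.D8Mod
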