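import Mathlib
import Cfsg.Agent.Lib.Helper5.D8Mod.Act

set_option autoImplicit false
set_option linter.style.haveILetI false
set_option linter.unusedSectionVars false

/-!
Faithful irreducible modules over the field with two elements for `3² : D₈`.
-/

namespace Cfsg.Agent.Lib.Helper5.D8Mod

variable {S : Type*} [Group S] {M : Type*} [AddCommGroup M] [Module (ZMod 2) M]

theorem add_self_zmod2 (m : M) : m + m = 0 := by
  rw [← two_smul (ZMod 2) m]
  have : (2 : ZMod 2) = 0 := by decide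
  rw [this, zero_smul]

theorem eq_of_add_eq_zero_zmod2 {m n : M} (h : m + n = 0) : m = n := by
  have h1 : m + n + n = n := by rw [h, zero_add]
  rw [add_assoc, add_self_zmod2, add_zero] at h1
  exact h1

theorem zmod2_cases (x : ZMod 2) : x = 0 ∨ x = 1 := by
  revert x; decide

variable (ρ : Representation (ZMod 2) S M)

theorem rho_mul (g h : S) (m : M) : ρ (g * h) m = ρ g (ρ h m) := by
  rw [map_mul]; rfl

theorem rho_one (m : M) : ρ 1 m = m := by
  rw [map_one]; rfl

/-- the fixed space of an element -/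
def fixSub (g : S) : Submodule (ZMod 2) M where
  carrier := {m | ρ g m = m}
  add_mem' := by
    intro x y hx hy
    show ρ g (x + y) = x + y
    rw [map_add, hx, hy]
  zero_mem' := map_zero _
  smul_mem' := by
    intro c x hx
    show ρ g (c • x) = c • x
    rw [map_smul, hx]

theorem mem_fixSub (g : S) (m : M) : m ∈ fixSub ρ g ↔ ρ g m = m := Iff.rfl

/-- an involution has a nonzero fixed point on a nonzero invariant subspace -/
theorem exists_fixed_of_involution (W : Submodule (ZMod 2) M) (u : S) (hu : u * u = 1)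
    (hinv : ∀ m ∈ W, ρ u m ∈ W) (hW : ∃ m ∈ W, m ≠ 0) : ∃ w ∈ W, w ≠ 0 ∧ ρ u w = w := by
  obtain ⟨m, hm, hm0⟩ := hW
  by_cases h : m + ρ u m = 0
  · exact ⟨m, hm, hm0, (eq_of_add_eq_zero_zmod2 h).symm⟩
  · refine ⟨m + ρ u m, W.add_mem hm (hinv m hm), h, ?_⟩
    rw [map_add, ← rho_mul, hu, rho_one, add_comm]

section faithful

variable (A : Subgroup S) [A.Normal] (hcomm : ∀ x ∈ A, ∀ y ∈ A, x * y = y * x)
  (h3 : ∀ x ∈ A, x ^ 3 = 1) (h9 : Nat.card A = 9)
  (hfaith : Function.Injective ρ)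

include h3 in
theorem rho_cube (x : S) (hx : x ∈ A) (m : M) : ρ x (ρ x (ρ x m)) = m := by
  rw [← rho_mul, ← rho_mul, ← pow_two, ← pow_succ, h3 x hx, rho_one]

include hcomm h3 h9 hfaith in
/-- some nonidentity element of `A` has a nonzero fixed point -/
theorem exists_fixed_elt [Nontrivial M] : ∃ a ∈ A, a ≠ 1 ∧ ∃ w : M, w ≠ 0 ∧ ρ a w = w := by
  classical
  by_contra hcon
  push Not at hcon
  -- norm relation for fixed-point-free elements
  have hnorm : ∀ x ∈ A, x ≠ 1 → ∀ m : M, ρ x (ρ x m) = m + ρ x m := by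
    intro x hx hx1 m
    have hfix : ρ x (m + ρ x m + ρ x (ρ x m)) = m + ρ x m + ρ x (ρ x m) := by
      rw [map_add, map_add, rho_cube ρ A h3 x hx]
      abel
    have h0 : m + ρ x m + ρ x (ρ x m) = 0 := by
      by_contra hne
      exact hcon x hx hx1 _ hne hfix
    exact (eq_of_add_eq_zero_zmod2 h0).symm
  haveI : Finite A := Nat.finite_of_card_ne_zero (by rw [h9]; norm_num)
  -- two independent elements
  obtain ⟨a, ha, ha1⟩ : ∃ a ∈ A, a ≠ 1 := by
    by_contra hc
    push Not at hc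
    have : Nat.card A = 1 := by
      rw [Nat.card_eq_one_iff_unique]
      refine ⟨⟨fun x y => Subtype.ext ?_⟩, ⟨1⟩⟩
      rw [hc x.1 x.2, hc y.1 y.2]
    omega
  have hcz : Nat.card (Subgroup.zpowers a) = 3 := by
    haveI : Fact (Nat.Prime 3) := ⟨by norm_num⟩
    rw [Nat.card_zpowers]
    exact orderOf_eq_prime (h3 a ha) ha1
  obtain ⟨b, hb, hbz⟩ : ∃ b ∈ A, b ∉ Subgroup.zpowers a := by
    by_contra hc
    push Not at hc
    have hle : A ≤ Subgroup.zpowers a := fun x hx => hc x hx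
    haveI : Finite (Subgroup.zpowers a) := Nat.finite_of_card_ne_zero (by rw [hcz]; norm_num)
    have := Subgroup.card_le_of_le hle
    omega
  have hb1 : b ≠ 1 := fun h => hbz (h ▸ Subgroup.one_mem _)
  have hab1 : a * b ≠ 1 := by
    intro h
    apply hbz
    have : b = a⁻¹ := (eq_inv_of_mul_eq_one_right h)
    rw [this]; exact Subgroup.inv_mem _ (Subgroup.mem_zpowers a)
  have habA : a * b ∈ A := A.mul_mem ha hb
  have hab : a * b = b * a := hcomm a ha b hb
  -- the contradiction: `a` and `b` act in the same way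
  have key : ∀ m : M, ρ a m = ρ b m := by
    intro m
    have h1 := hnorm (a * b) habA hab1 m
    have h2 : ρ (a * b) (ρ (a * b) m) = ρ a (ρ a (ρ b (ρ b m))) := by
      rw [rho_mul, rho_mul, ← rho_mul ρ b a, ← hab, rho_mul]
    rw [h2, hnorm b hb hb1, hnorm a ha ha1, map_add, rho_mul] at h1
    -- m + b m + a m + a b m = m + a b m
    have h3' : ρ a m + ρ b m = 0 := by
      have : (m + ρ b m + (ρ a m + ρ a (ρ b m))) + (m + ρ a (ρ b m)) = 0 := by
        rw [h1]; exact add_self_zmod2 _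
      have e : (m + ρ b m + (ρ a m + ρ a (ρ b m))) + (m + ρ a (ρ b m)) =
          (m + m) + (ρ a (ρ b m) + ρ a (ρ b m)) + (ρ a m + ρ b m) := by abel
      rw [e, add_self_zmod2, add_self_zmod2, zero_add, zero_add] at this
      exact this
    exact eq_of_add_eq_zero_zmod2 h3'
  have : ρ a = ρ b := LinearMap.ext key
  have hab' : a = b := hfaith this
  apply hbz
  rw [← hab']; exact Subgroup.mem_zpowers a

variable (hirr : ∀ N : Submodule (ZMod 2) M, (∀ s : S, ∀ m ∈ N, ρ s m ∈ N) → N = ⊥ ∨ N = ⊤)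

include h9 hfaith hirr in
/-- `A` has no nonzero fixed points -/
theorem fix_A_trivial (m : M) (hm : ∀ x ∈ A, ρ x m = m) : m = 0 := by
  let N : Submodule (ZMod 2) M :=
    { carrier := {m | ∀ x ∈ A, ρ x m = m}
      add_mem' := by
        intro x y hx hy g hg
        rw [map_add, hx g hg, hy g hg]
      zero_mem' := fun g _ => map_zero _
      smul_mem' := by
        intro c x hx g hg
        rw [map_smul, hx g hg] }
  have hinv : ∀ s : S, ∀ m ∈ N, ρ s m ∈ N := by
    intro s m hm x hx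
    have h1 : x * s = s * (s⁻¹ * x * s) := by group
    have h2 : s⁻¹ * x * s ∈ A := by
      have := Subgroup.Normal.conj_mem (inferInstance : A.Normal) x hx s⁻¹
      rwa [inv_inv] at this
    rw [← rho_mul, h1, rho_mul, hm _ h2]
  rcases hirr N hinv with h | h
  · have : m ∈ N := hm
    rw [h] at this
    exact (Submodule.mem_bot _).1 this
  · exfalso
    have hall : ∀ x ∈ A, x = 1 := by
      intro x hx
      apply hfaith
      apply LinearMap.ext
      intro m
      have : m ∈ N := by rw [h]; trivial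
      rw [this x hx, rho_one]
    have : Nat.card A = 1 := by
      rw [Nat.card_eq_one_iff_unique]
      refine ⟨⟨fun x y => Subtype.ext ?_⟩, ⟨1⟩⟩
      rw [hall x.1 x.2, hall y.1 y.2]
    omega

end faithful

section table

variable (a a' r z t : S)
  (i1 : a * r = r * (a' * a')) (i2 : a' * r = r * a) (i3 : z * a' = (a' * a') * z)
  (i4 : t * a' = (a' * a') * t) (i5 : t * r = r * z * t) (i6 : z * r = r * z)
  (i7 : a * a' = a' * a) (rr : r * r = z)
  (w : M) (wa : ρ a w = w) (wz : ρ z w = w) (wt : ρ t w = w)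
  (wN : ρ a' (ρ a' w) = w + ρ a' w)

include wN in
theorem tab_cube : ρ a' (ρ a' (ρ a' w)) = w := by
  rw [wN, map_add, wN, ← add_assoc, add_comm (ρ a' w) w, add_assoc, add_self_zmod2, add_zero]

include i7 wa in
theorem tab_a2 : ρ a (ρ a' w) = ρ a' w := by
  rw [← rho_mul, i7, rho_mul, wa]

include i1 wN in
theorem tab_a3 : ρ a (ρ r w) = ρ r w + ρ r (ρ a' w) := by
  rw [← rho_mul, i1, rho_mul, rho_mul, wN, map_add]

include i1 wN in
theorem tab_a4 : ρ a (ρ r (ρ a' w)) = ρ r w := by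
  rw [← rho_mul, i1, rho_mul, rho_mul, tab_cube ρ a' w wN]

include i2 wa in
theorem tab_b3 : ρ a' (ρ r w) = ρ r w := by
  rw [← rho_mul, i2, rho_mul, wa]

include i2 i7 wa in
theorem tab_b4 : ρ a' (ρ r (ρ a' w)) = ρ r (ρ a' w) := by
  rw [← rho_mul, i2, rho_mul, tab_a2 ρ a a' i7 w wa]

include rr wz in
theorem tab_r3 : ρ r (ρ r w) = w := by
  rw [← rho_mul, rr, wz]

include i3 wz wN in
theorem tab_z2 : ρ z (ρ a' w) = w + ρ a' w := by
  rw [← rho_mul, i3, rho_mul, rho_mul, wz, wN]

include rr i3 wz wN in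
theorem tab_r4 : ρ r (ρ r (ρ a' w)) = w + ρ a' w := by
  rw [← rho_mul, rr, tab_z2 ρ a' z i3 w wz wN]

include i4 wt wN in
theorem tab_t2 : ρ t (ρ a' w) = w + ρ a' w := by
  rw [← rho_mul, i4, rho_mul, rho_mul, wt, wN]

include i5 wz wt in
theorem tab_t3 : ρ t (ρ r w) = ρ r w := by
  rw [← rho_mul, i5, rho_mul, rho_mul, wt, wz]

include i3 i4 i5 wz wt wN in
theorem tab_t4 : ρ t (ρ r (ρ a' w)) = ρ r (ρ a' w) := by
  rw [← rho_mul, i5, rho_mul, rho_mul, tab_t2 ρ a' t i4 w wt wN, map_add,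
    tab_z2 ρ a' z i3 w wz wN, wz, ← add_assoc, add_self_zmod2, zero_add]

include i6 wz in
theorem tab_z3 : ρ z (ρ r w) = ρ r w := by
  rw [← rho_mul, i6, rho_mul, wz]

include i3 i6 wz wN in
theorem tab_z4 : ρ z (ρ r (ρ a' w)) = ρ r w + ρ r (ρ a' w) := by
  rw [← rho_mul, i6, rho_mul, tab_z2 ρ a' z i3 w wz wN, map_add]

end table

end Cfsg.Agent.Lib.Helper5.D8Mod
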