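import Mathlib
import Cfsg.Agent.Lib.Helper5.D8Mod.Mod

set_option autoImplicit false
set_option linter.style.haveILetI false
set_option linter.unusedSectionVars false

/-!
The structure of a faithful irreducible module for `3² : D₈` over the field with two elements:
an explicit basis and the action of the central involution and of the reflections.
-/

namespace Cfsg.Agent.Lib.Helper5.D8Mod

variable {S : Type*} [Group S] {M : Type*} [AddCommGroup M] [Module (ZMod 2) M]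
variable (ρ : Representation (ZMod 2) S M)

/-- the stabilizer of a vector -/
def fixer (m : M) : Subgroup S where
  carrier := {g | ρ g m = m}
  mul_mem' := by
    intro g h hg hh
    show ρ (g * h) m = m
    rw [rho_mul, hh, hg]
  one_mem' := rho_one ρ m
  inv_mem' := by
    intro g hg
    show ρ g⁻¹ m = m
    have hg' : ρ g m = m := hg
    nth_rewrite 1 [← hg']
    rw [← rho_mul, inv_mul_cancel, rho_one]

theorem mem_fixer (m : M) (g : S) : g ∈ fixer ρ m ↔ ρ g m = m := Iff.rfl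

/-- the stabilizer of a subspace -/
def invSub (N : Submodule (ZMod 2) M) : Subgroup S where
  carrier := {g | ∀ m ∈ N, ρ g m ∈ N ∧ ρ g⁻¹ m ∈ N}
  mul_mem' := by
    intro g h hg hh m hm
    constructor
    · rw [rho_mul]; exact (hg _ (hh m hm).1).1
    · rw [mul_inv_rev, rho_mul]; exact (hh _ (hg m hm).2).2
  one_mem' := by
    intro m hm
    rw [inv_one, rho_one]; exact ⟨hm, hm⟩
  inv_mem' := by
    intro g hg m hm
    rw [inv_inv]; exact ⟨(hg m hm).2, (hg m hm).1⟩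

theorem mem_invSub (N : Submodule (ZMod 2) M) (g : S) :
    g ∈ invSub ρ N ↔ ∀ m ∈ N, ρ g m ∈ N ∧ ρ g⁻¹ m ∈ N := Iff.rfl

/-- membership in `invSub` for an element of finite order from forward invariance -/
theorem mem_invSub_of_pow (N : Submodule (ZMod 2) M) (g : S) (n : ℕ) (hn : g ^ (n + 1) = 1)
    (h : ∀ m ∈ N, ρ g m ∈ N) : g ∈ invSub ρ N := by
  have hpow : ∀ k : ℕ, ∀ m ∈ N, ρ (g ^ k) m ∈ N := by
    intro k
    induction k with
    | zero => intro m hm; rw [pow_zero, rho_one]; exact hm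
    | succ k ih =>
      intro m hm
      rw [pow_succ, rho_mul]; exact ih _ (h m hm)
  intro m hm
  refine ⟨h m hm, ?_⟩
  have : g⁻¹ = g ^ n := by
    apply inv_eq_of_mul_eq_one_right
    rw [← pow_succ', hn]
  rw [this]; exact hpow n m hm

/-- the coordinate map -/
def coord (v : Fin 4 → M) : (Fin 4 → ZMod 2) →ₗ[ZMod 2] M := Fintype.linearCombination (ZMod 2) v

theorem coord_apply (v : Fin 4 → M) (c : Fin 4 → ZMod 2) :
    coord v c = c 0 • v 0 + c 1 • v 1 + c 2 • v 2 + c 3 • v 3 := by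
  unfold coord
  rw [Fintype.linearCombination_apply, Fin.sum_univ_four]

theorem coord_vec (v : Fin 4 → M) (c0 c1 c2 c3 : ZMod 2) :
    coord v ![c0, c1, c2, c3] = c0 • v 0 + c1 • v 1 + c2 • v 2 + c3 • v 3 := by
  rw [coord_apply]; rfl

section structure_thm

variable (A : Subgroup S) [A.Normal] (hcomm : ∀ x ∈ A, ∀ y ∈ A, x * y = y * x)
  (h3 : ∀ x ∈ A, x ^ 3 = 1) (h9 : Nat.card A = 9)
  (hAC : Subgroup.centralizer (A : Set S) = A)
  {X : Subgroup S} (D : D8Data X) (hAX : A ⊔ X = ⊤)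
  (hfaith : Function.Injective ρ)
  (hirr : ∀ N : Submodule (ZMod 2) M, (∀ s : S, ∀ m ∈ N, ρ s m ∈ N) → N = ⊥ ∨ N = ⊤)

include hcomm h3 h9 hAC hAX hfaith hirr in
/-- **the structure theorem** -/
theorem structure_thm [Nontrivial M] :
    ∃ (k : ZMod 4) (Φ : (Fin 4 → ZMod 2) ≃ₗ[ZMod 2] M),
      (∀ c, ρ D.z (Φ c) = Φ ![c 0 + c 1, c 1, c 2 + c 3, c 3]) ∧
      (∀ c, ρ (D.t k) (Φ c) = Φ ![c 0 + c 1, c 1, c 2, c 3]) ∧
      (∀ c, ρ (D.t (k + 1)) (Φ c) = Φ ![c 2, c 3, c 0, c 1]) := by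
  classical
  -- the element `a` and its conjugate
  obtain ⟨a, ha, ha1, w₀, hw₀, haw₀⟩ := exists_fixed_elt ρ A hcomm h3 h9 hfaith
  let a' : S := D.r * a * D.r⁻¹
  have ha' : a' ∈ A := Subgroup.Normal.conj_mem inferInstance a ha D.r
  have hmove : a' ∉ Subgroup.zpowers a := r_moves A hcomm h3 h9 hAC D a ha ha1
  obtain ⟨k, hk⟩ := exists_reflection_centralizing A hcomm h3 h9 hAC D a ha ha1
  have hz := z_inverts A hcomm h3 h9 hAC D
  have hcl : Subgroup.closure {a, a'} = A := closure_pair_eq A h3 h9 a a' ha ha' ha1 hmove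
  -- relations
  have a'inv : a'⁻¹ = a' * a' := by
    apply inv_eq_of_mul_eq_one_right
    have := h3 a' ha'
    rw [pow_succ, pow_two] at this
    rw [← mul_assoc]; exact this
  have ainv : a⁻¹ = a * a := by
    apply inv_eq_of_mul_eq_one_right
    have := h3 a ha
    rw [pow_succ, pow_two] at this
    rw [← mul_assoc]; exact this
  have i2 : a' * D.r = D.r * a := by
    show D.r * a * D.r⁻¹ * D.r = D.r * a
    group
  have ra' : D.r * a' * D.r⁻¹ = a⁻¹ := by
    have e1 : D.r * a' * D.r⁻¹ = (D.r * D.r) * a * (D.r * D.r)⁻¹ := by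
      show D.r * (D.r * a * D.r⁻¹) * D.r⁻¹ = _
      group
    rw [e1, D.r_mul_r]; exact hz a ha
  have ra'inv : D.r * a'⁻¹ * D.r⁻¹ = a := by
    have e1 : D.r * a'⁻¹ * D.r⁻¹ = (D.r * a' * D.r⁻¹)⁻¹ := by group
    rw [e1, ra', inv_inv]
  have i1 : a * D.r = D.r * (a' * a') := by
    rw [← a'inv]
    nth_rewrite 1 [← ra'inv]
    group
  have i3 : D.z * a' = (a' * a') * D.z := by
    rw [← a'inv, ← hz a' ha']; group
  have hta : D.t k * a = a * D.t k := by
    have := hk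
    rw [mul_inv_eq_iff_eq_mul] at this
    exact this
  have i5 : D.t k * D.r = D.r * D.z * D.t k := by
    rw [D.tr, D.r_inv]
  have i4 : D.t k * a' = (a' * a') * D.t k := by
    rw [← a'inv]
    have e1 : a'⁻¹ = D.r⁻¹ * a * D.r := by
      rw [← ra'inv]; group
    have e2 : D.t k * a' = D.t k * D.r * a * D.r⁻¹ := by
      show D.t k * (D.r * a * D.r⁻¹) = _
      group
    have e3 : D.r⁻¹ * (D.t k)⁻¹ = (D.t k)⁻¹ * D.r := by
      have : (D.t k * D.r)⁻¹ = (D.r⁻¹ * D.t k)⁻¹ := by rw [D.tr]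
      rw [mul_inv_rev, mul_inv_rev, inv_inv] at this
      exact this
    have e4 : D.t k * D.r * a * D.r⁻¹ = D.r⁻¹ * (D.t k * a * (D.t k)⁻¹) * D.r * D.t k := by
      rw [D.tr]
      have : D.r⁻¹ * (D.t k * a * (D.t k)⁻¹) * D.r * D.t k =
          D.r⁻¹ * D.t k * a * ((D.t k)⁻¹ * D.r) * D.t k := by group
      rw [this, ← e3]; group
    rw [e2, e4, hk, e1]
  have i6 : D.z * D.r = D.r * D.z := D.z_comm_r
  have i7 : a * a' = a' * a := hcomm a ha a' ha'
  have rr : D.r * D.r = D.z := D.r_mul_r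
  have htz : D.t k * D.z = D.z * D.t k := D.t_comm_z k
  have haz : a * D.z = D.z * a⁻¹ := by
    have := hz a⁻¹ (A.inv_mem ha)
    rw [inv_inv, mul_inv_eq_iff_eq_mul] at this
    exact this.symm
  -- the vector `w`
  let W : Submodule (ZMod 2) M := fixSub ρ a
  have hfixinv : ∀ m : M, ρ a m = m → ρ a⁻¹ m = m := by
    intro m hm
    nth_rewrite 1 [← hm]
    rw [← rho_mul, inv_mul_cancel, rho_one]
  have hWz : ∀ m ∈ W, ρ D.z m ∈ W := by
    intro m hm
    show ρ a (ρ D.z m) = ρ D.z m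
    rw [← rho_mul, haz, rho_mul, hfixinv m hm]
  obtain ⟨w₁, hw₁W, hw₁0, hw₁z⟩ :=
    exists_fixed_of_involution ρ W D.z D.z_mul_z hWz ⟨w₀, haw₀, hw₀⟩
  let W₂ : Submodule (ZMod 2) M := W ⊓ fixSub ρ D.z
  have hW₂t : ∀ m ∈ W₂, ρ (D.t k) m ∈ W₂ := by
    rintro m ⟨hm1, hm2⟩
    constructor
    · show ρ a (ρ (D.t k) m) = ρ (D.t k) m
      rw [← rho_mul, ← hta, rho_mul]
      have : ρ a m = m := hm1
      rw [this]
    · show ρ D.z (ρ (D.t k) m) = ρ (D.t k) m
      rw [← rho_mul, ← htz, rho_mul]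
      have : ρ D.z m = m := hm2
      rw [this]
  obtain ⟨w, hwW₂, hw0, wt⟩ :=
    exists_fixed_of_involution ρ W₂ (D.t k) (D.t2 k) hW₂t ⟨w₁, ⟨hw₁W, hw₁z⟩, hw₁0⟩
  have wa : ρ a w = w := hwW₂.1
  have wz : ρ D.z w = w := hwW₂.2
  -- common fixed points of `a` and `a'` vanish
  have hcommon : ∀ m : M, ρ a m = m → ρ a' m = m → m = 0 := by
    intro m h1 h2
    apply fix_A_trivial ρ A h9 hfaith hirr m
    intro x hx
    have hle : Subgroup.closure {a, a'} ≤ fixer ρ m := by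
      rw [Subgroup.closure_le]
      intro y hy
      rcases hy with rfl | rfl
      · exact h1
      · exact h2
    rw [← hcl] at hx
    exact hle hx
  have wN : ρ a' (ρ a' w) = w + ρ a' w := by
    have h0 : w + ρ a' w + ρ a' (ρ a' w) = 0 := by
      apply hcommon
      · have e1 : ρ a (ρ a' (ρ a' w)) = ρ a' (ρ a' w) := by
          rw [← rho_mul, i7, rho_mul, tab_a2 ρ a a' i7 w wa]
        rw [map_add, map_add, wa, tab_a2 ρ a a' i7 w wa, e1]
      · rw [map_add, map_add, rho_cube ρ A h3 a' ha']; abel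
    exact (eq_of_add_eq_zero_zmod2 h0).symm
  -- the basis
  let v : Fin 4 → M := ![w, ρ a' w, ρ D.r w, ρ D.r (ρ a' w)]
  let Φ₀ : (Fin 4 → ZMod 2) →ₗ[ZMod 2] M := coord v
  have hΦ : ∀ c, Φ₀ c = c 0 • w + c 1 • ρ a' w + c 2 • ρ D.r w + c 3 • ρ D.r (ρ a' w) :=
    fun c => coord_apply v c
  have hΦv : ∀ c0 c1 c2 c3 : ZMod 2, Φ₀ ![c0, c1, c2, c3] =
      c0 • w + c1 • ρ a' w + c2 • ρ D.r w + c3 • ρ D.r (ρ a' w) :=
    fun c0 c1 c2 c3 => coord_vec v c0 c1 c2 c3
  -- the action on coordinates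
  have fa : ∀ c, ρ a (Φ₀ c) = Φ₀ ![c 0, c 1, c 2 + c 3, c 2] := by
    intro c
    rw [hΦ, hΦv, map_add, map_add, map_add, map_smul, map_smul, map_smul, map_smul, wa,
      tab_a2 ρ a a' i7 w wa, tab_a3 ρ a a' D.r i1 w wN, tab_a4 ρ a a' D.r i1 w wN]
    module
  have fa' : ∀ c, ρ a' (Φ₀ c) = Φ₀ ![c 1, c 0 + c 1, c 2, c 3] := by
    intro c
    rw [hΦ, hΦv, map_add, map_add, map_add, map_smul, map_smul, map_smul, map_smul, wN,
      tab_b3 ρ a a' D.r i2 w wa, tab_b4 ρ a a' D.r i2 i7 w wa]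
    module
  have fr : ∀ c, ρ D.r (Φ₀ c) = Φ₀ ![c 2 + c 3, c 3, c 0, c 1] := by
    intro c
    rw [hΦ, hΦv, map_add, map_add, map_add, map_smul, map_smul, map_smul, map_smul,
      tab_r3 ρ D.r D.z rr w wz, tab_r4 ρ a' D.r D.z i3 rr w wz wN]
    module
  have ft : ∀ c, ρ (D.t k) (Φ₀ c) = Φ₀ ![c 0 + c 1, c 1, c 2, c 3] := by
    intro c
    rw [hΦ, hΦv, map_add, map_add, map_add, map_smul, map_smul, map_smul, map_smul, wt,
      tab_t2 ρ a' (D.t k) i4 w wt wN, tab_t3 ρ D.r D.z (D.t k) i5 w wz wt,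
      tab_t4 ρ a' D.r D.z (D.t k) i3 i4 i5 w wz wt wN]
    module
  have fz : ∀ c, ρ D.z (Φ₀ c) = Φ₀ ![c 0 + c 1, c 1, c 2 + c 3, c 3] := by
    intro c
    rw [hΦ, hΦv, map_add, map_add, map_add, map_smul, map_smul, map_smul, map_smul, wz,
      tab_z2 ρ a' D.z i3 w wz wN, tab_z3 ρ D.r D.z i6 w wz, tab_z4 ρ a' D.r D.z i3 i6 w wz wN]
    module
  -- injectivity
  have hker : ∀ c, Φ₀ c = 0 → c = 0 := by
    intro c hc
    rw [hΦ] at hc
    have hu2 : c 0 • w + c 1 • ρ a' w = ρ D.r (c 2 • w + c 3 • ρ a' w) := by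
      rw [map_add, map_smul, map_smul]
      apply eq_of_add_eq_zero_zmod2
      rw [← hc]; abel
    have hua : ρ a (c 0 • w + c 1 • ρ a' w) = c 0 • w + c 1 • ρ a' w := by
      rw [map_add, map_smul, map_smul, wa, tab_a2 ρ a a' i7 w wa]
    have hua' : ρ a' (c 0 • w + c 1 • ρ a' w) = c 0 • w + c 1 • ρ a' w := by
      rw [hu2, ← rho_mul, i2, rho_mul]
      congr 1
      rw [map_add, map_smul, map_smul, wa, tab_a2 ρ a a' i7 w wa]
    have hu0 : c 0 • w + c 1 • ρ a' w = 0 := hcommon _ hua hua'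
    have key : ∀ x y : ZMod 2, x • w + y • ρ a' w = 0 → x = 0 ∧ y = 0 := by
      intro x y h
      rcases zmod2_cases x with rfl | rfl <;> rcases zmod2_cases y with rfl | rfl
      · exact ⟨rfl, rfl⟩
      · exfalso
        rw [zero_smul, one_smul, zero_add] at h
        apply hw0
        have := rho_cube ρ A h3 a' ha' w
        rw [h, map_zero, map_zero] at this
        exact this.symm
      · exfalso
        rw [one_smul, zero_smul, add_zero] at h
        exact hw0 h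
      · exfalso
        rw [one_smul, one_smul] at h
        have h' : w = ρ a' w := eq_of_add_eq_zero_zmod2 h
        exact hw0 (hcommon w wa h'.symm)
    obtain ⟨h0, h1⟩ := key _ _ hu0
    have hu3 : c 2 • w + c 3 • ρ a' w = 0 := by
      have : ρ D.r (c 2 • w + c 3 • ρ a' w) = 0 := by rw [← hu2, hu0]
      have h' := congrArg (ρ D.r⁻¹) this
      rw [← rho_mul, inv_mul_cancel, rho_one, map_zero] at h'
      exact h'
    obtain ⟨h2, h3'⟩ := key _ _ hu3
    funext i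
    fin_cases i
    · exact h0
    · exact h1
    · exact h2
    · exact h3'
  -- surjectivity
  have hrange : LinearMap.range Φ₀ = ⊤ := by
    let N : Submodule (ZMod 2) M := LinearMap.range Φ₀
    have hmem : ∀ c, Φ₀ c ∈ N := fun c => ⟨c, rfl⟩
    have hinvg : ∀ g : S, (∀ c, ∃ c', ρ g (Φ₀ c) = Φ₀ c') → ∀ m ∈ N, ρ g m ∈ N := by
      intro g hg m hm
      obtain ⟨c, rfl⟩ := hm
      obtain ⟨c', hc'⟩ := hg c
      rw [hc']; exact hmem c'
    have ha_inv : a ∈ invSub ρ N :=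
      mem_invSub_of_pow ρ N a 2 (h3 a ha) (hinvg a (fun c => ⟨_, fa c⟩))
    have ha'_inv : a' ∈ invSub ρ N :=
      mem_invSub_of_pow ρ N a' 2 (h3 a' ha') (hinvg a' (fun c => ⟨_, fa' c⟩))
    have hr_inv : D.r ∈ invSub ρ N :=
      mem_invSub_of_pow ρ N D.r 3 D.r4 (hinvg D.r (fun c => ⟨_, fr c⟩))
    have ht_inv : D.t k ∈ invSub ρ N :=
      mem_invSub_of_pow ρ N (D.t k) 1 (by rw [pow_two]; exact D.t2 k)
        (hinvg (D.t k) (fun c => ⟨_, ft c⟩))
    have hA : A ≤ invSub ρ N := by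
      rw [← hcl, Subgroup.closure_le]
      intro y hy
      rcases hy with rfl | rfl
      · exact ha_inv
      · exact ha'_inv
    have hX : X ≤ invSub ρ N := by
      intro x hx
      rcases D.elems x hx with ⟨i, rfl⟩ | ⟨j, rfl⟩
      · exact pow_mem hr_inv i
      · rw [D.t_eq k j]; exact mul_mem ht_inv (pow_mem hr_inv _)
    have htop : invSub ρ N = ⊤ := by
      rw [eq_top_iff, ← hAX]; exact sup_le hA hX
    have hall : ∀ s : S, ∀ m ∈ N, ρ s m ∈ N := by
      intro s m hm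
      have hs : s ∈ invSub ρ N := by rw [htop]; trivial
      exact (hs m hm).1
    rcases hirr N hall with h | h
    · exfalso
      have hwN : w ∈ N := by
        refine ⟨![1, 0, 0, 0], ?_⟩
        rw [hΦv]; simp
      rw [h] at hwN
      exact hw0 ((Submodule.mem_bot _).1 hwN)
    · exact h
  have hinj : Function.Injective Φ₀ := (injective_iff_map_eq_zero Φ₀).2 hker
  have hsurj : Function.Surjective Φ₀ := LinearMap.range_eq_top.1 hrange
  let Φ : (Fin 4 → ZMod 2) ≃ₗ[ZMod 2] M := LinearEquiv.ofBijective Φ₀ ⟨hinj, hsurj⟩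
  have hΦΦ : ∀ c, Φ c = Φ₀ c := fun c => rfl
  refine ⟨k, Φ, ?_, ?_, ?_⟩
  · intro c; rw [hΦΦ, hΦΦ]; exact fz c
  · intro c; rw [hΦΦ, hΦΦ]; exact ft c
  · intro c
    rw [hΦΦ, hΦΦ, D.tsucc, rho_mul, fr, ft]
    congr 1
    have e : c 2 + c 3 + c 3 = c 2 := by
      rw [add_assoc, CharTwo.add_self_eq_zero, add_zero]
    funext i
    fin_cases i
    · exact e
    · rfl
    · rfl
    · rfl

end structure_thm

end Cfsg.Agent.Lib.Helper5.D8Mod
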