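import Mathlib
import Cfsg.Agent.Lib.Helper5.D8Mod.Struct
import Cfsg.Prelude.Def_Transfer

set_option autoImplicit false
set_option linter.style.haveILetI false
set_option linter.unusedSectionVars false

/-!
`3² : D₈`: a faithful irreducible module over the field with two elements has sixteen elements and
exactly one four-subgroup of the dihedral group has a fixed space of order two.
-/

namespace Cfsg.Agent.Lib.Helper5.D8Mod

variable {S : Type*} [Group S] {M : Type*} [AddCommGroup M] [Module (ZMod 2) M]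
variable (ρ : Representation (ZMod 2) S M)

section count

variable {X : Subgroup S} (D : D8Data X)

/-- fixed points of a Klein four-subgroup -/
theorem fix_kl_iff (j : ZMod 4) (m : M) :
    (∀ b ∈ D.kl j, ρ b m = m) ↔ ρ D.z m = m ∧ ρ (D.t j) m = m := by
  have hmem : ∀ b, b ∈ D.kl j ↔ b = 1 ∨ b = D.r ^ 2 ∨ b = D.t j ∨ b = D.t (j + 2) := by
    intro b
    rw [← SetLike.mem_coe, D.kl_coe j]
    simp only [Set.mem_insert_iff, Set.mem_singleton_iff]
  constructor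
  · intro h
    exact ⟨h _ ((hmem _).2 (Or.inr (Or.inl rfl))), h _ ((hmem _).2 (Or.inr (Or.inr (Or.inl rfl))))⟩
  · rintro ⟨hz, ht⟩ b hb
    rcases (hmem b).1 hb with rfl | rfl | rfl | rfl
    · exact rho_one ρ m
    · exact hz
    · exact ht
    · rw [D.t_mul_z, rho_mul, hz, ht]

/-- the fixed space in coordinates -/
theorem card_fix_kl (Φ : (Fin 4 → ZMod 2) ≃ₗ[ZMod 2] M)
    (Z T : (Fin 4 → ZMod 2) → (Fin 4 → ZMod 2)) (j : ZMod 4)
    (hZ : ∀ c, ρ D.z (Φ c) = Φ (Z c)) (hT : ∀ c, ρ (D.t j) (Φ c) = Φ (T c)) :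
    Nat.card {m : M // ∀ b ∈ D.kl j, ρ b m = m} =
      Nat.card {c : Fin 4 → ZMod 2 // Z c = c ∧ T c = c} := by
  apply Nat.card_congr
  refine (Equiv.subtypeEquiv Φ.toEquiv ?_).symm
  intro c
  rw [fix_kl_iff]
  show Z c = c ∧ T c = c ↔ ρ D.z (Φ c) = Φ c ∧ ρ (D.t j) (Φ c) = Φ c
  rw [hZ, hT]
  constructor
  · rintro ⟨h1, h2⟩; rw [h1, h2]; exact ⟨rfl, rfl⟩
  · rintro ⟨h1, h2⟩; exact ⟨Φ.injective h1, Φ.injective h2⟩

end count

theorem zmod4_cases (k j : ZMod 4) : j = k ∨ j = k + 1 ∨ j = k + 2 ∨ j = k + 3 := by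
  revert k j; decide

theorem main {S : Type*} [Group S] [Finite S]
    (A : Subgroup S) [A.Normal] (hA : Cfsg.IsElementaryAbelian 3 A) (hA9 : Nat.card ↥A = 9)
    (hAC : Subgroup.centralizer (A : Set S) = A) (X : Subgroup S)
    (hX : Nonempty (↥X ≃* DihedralGroup 4)) (hAX : A ⊔ X = ⊤)
    {M : Type*} [AddCommGroup M] [Module (ZMod 2) M] [Finite M] (ρ : Representation (ZMod 2) S M)
    (hfaith : Function.Injective ρ)
    (hirr : ∀ N : Submodule (ZMod 2) M, (∀ s : S, ∀ m ∈ N, ρ s m ∈ N) → N = ⊥ ∨ N = ⊤)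
    (hM : Nontrivial M) :
    Nat.card M = 16 ∧
      ∃! B : Subgroup S, B ≤ X ∧ Nat.card ↥B = 4 ∧ (∀ b ∈ B, b ^ 2 = 1) ∧
        Nat.card {m : M // ∀ b ∈ B, ρ b m = m} = 2 := by
  classical
  obtain ⟨e⟩ := hX
  obtain ⟨D⟩ := exists_D8Data X e
  have hcomm : ∀ x ∈ A, ∀ y ∈ A, x * y = y * x := by
    intro x hx y hy
    have := hA.1.is_comm.comm (⟨x, hx⟩ : A) ⟨y, hy⟩
    exact congrArg Subtype.val this
  have h3 : ∀ x ∈ A, x ^ 3 = 1 := hA.2
  obtain ⟨k, Φ, fz, ft, ft1⟩ := structure_thm ρ A hcomm h3 hA9 hAC D hAX hfaith hirr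
  -- the four reflections in coordinates
  have ft2 : ∀ c, ρ (D.t (k + 2)) (Φ c) = Φ ![c 0 + c 1 + c 1, c 1, c 2 + c 3, c 3] := by
    intro c
    rw [D.t_mul_z, rho_mul, fz, ft]; rfl
  have ft3 : ∀ c, ρ (D.t (k + 3)) (Φ c) = Φ ![c 2 + c 3, c 3, c 0 + c 1, c 1] := by
    intro c
    have h : k + 3 = (k + 1) + 2 := by ring
    rw [h, D.t_mul_z, rho_mul, fz, ft1]; rfl
  have c0 : Nat.card {m : M // ∀ b ∈ D.kl k, ρ b m = m} = 4 := by
    rw [card_fix_kl ρ D Φ _ _ k fz ft, Nat.card_eq_fintype_card]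
    decide
  have c1 : Nat.card {m : M // ∀ b ∈ D.kl (k + 1), ρ b m = m} = 2 := by
    rw [card_fix_kl ρ D Φ _ _ (k + 1) fz ft1, Nat.card_eq_fintype_card]
    decide
  have c2 : Nat.card {m : M // ∀ b ∈ D.kl (k + 2), ρ b m = m} = 4 := by
    rw [card_fix_kl ρ D Φ _ _ (k + 2) fz ft2, Nat.card_eq_fintype_card]
    decide
  have c3 : Nat.card {m : M // ∀ b ∈ D.kl (k + 3), ρ b m = m} = 2 := by
    rw [card_fix_kl ρ D Φ _ _ (k + 3) fz ft3, Nat.card_eq_fintype_card]
    decide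
  refine ⟨?_, D.kl (k + 1), ⟨D.kl_le _, D.kl_card _, ?_, c1⟩, ?_⟩
  · rw [← Nat.card_congr Φ.toEquiv, Nat.card_eq_fintype_card]
    decide
  · intro b hb
    rw [← SetLike.mem_coe, D.kl_coe] at hb
    simp only [Set.mem_insert_iff, Set.mem_singleton_iff] at hb
    rcases hb with rfl | rfl | rfl | rfl
    · exact one_pow 2
    · rw [← pow_mul]; exact D.r4
    · rw [pow_two]; exact D.t2 _
    · rw [pow_two]; exact D.t2 _
  · rintro B ⟨hBX, hB4, hB2, hBc⟩
    obtain ⟨j, hj⟩ := D.klein B hBX hB4 hB2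
    have hBj : B = D.kl j := by
      apply SetLike.coe_injective
      rw [hj, D.kl_coe]
    rcases zmod4_cases k j with rfl | rfl | rfl | rfl
    · rw [hBj, c0] at hBc; omega
    · exact hBj
    · rw [hBj, c2] at hBc; omega
    · rw [hBj]
      apply SetLike.coe_injective
      rw [D.kl_coe, D.kl_coe]
      have h1 : k + 3 + 2 = k + 1 := by
        have : (k + 3 + 2 : ZMod 4) = k + 1 + 4 := by ring
        rw [this]
        have h4 : (4 : ZMod 4) = 0 := by decide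
        rw [h4, add_zero]
      have h2 : k + 1 + 2 = k + 3 := by ring
      rw [h1, h2]
      ext x
      simp only [Set.mem_insert_iff, Set.mem_singleton_iff]
      tauto

end Cfsg.Agent.Lib.Helper5.D8Mod
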